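import Cfsg.Agent.H607.Car.E6Def
import Cfsg.Agent.H129.ExactZ
import Cfsg.Agent.S1035
import Cfsg.Agent.FastGrp
import Cfsg.Agent.Prune
set_option linter.all false
prune_inst 0x7f00000000000000000000000000000000000000000000000000000000000000000000000000000000000000000000000000000000000000000000000000000000000000000000000000000000000000003fffffffffffffffffffffffffffbeffbdffffffff
open scoped Cfsg.Agent.FastGrp

/-!
# Carter subgroups, `E₆(q)`, `²E₆(q)`: conjugacy in `X` of toral elements (S3852, T3, helper129)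

`Y = E₆(k)`, `σ` the Steinberg endomorphism, `ι : X → Y`.  A toral element `x` of `X` commutes with a fixed point `u` of
`σ` outside of `ι X` (if `3 ∣ q - ε`), and the fixed points modulo `ι X` have order dividing 3; so the class of `x` under
the fixed points is its class in `X`.

* `exists_cent`, `conn_core` : the general case;
* `conn_split`, `conn_tw` : `ConnSt` (also for the elements of order 3: `connAll_split`, `connAll_tw`).
-/

set_option autoImplicit false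
set_option linter.unusedSectionVars false

namespace Cfsg.Agent.H129.Car

open CoxeterSystem Cfsg Cfsg.Lie Cfsg.Lie.ChevalleyDatum
open Cfsg.Agent.ChevalleyStructure Cfsg.Agent.ChevalleyStructure.Elts Cfsg.Agent.ChevalleyStructure.CoxeterGeom
  Cfsg.Agent.ChevalleyStructure.CoxeterGeomTypes Cfsg.Agent.ChevalleyStructure.NPerm
open Cfsg.Agent.Tits.Roots Cfsg.Agent.Tits.Core Cfsg.Agent.Nodes Cfsg.Agent.Nodes.Reps Cfsg.Agent.Nodes.BNOf
  Cfsg.Agent.Nodes.RGDChev Cfsg.Agent.Nodes.Bruhat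
open Cfsg.Agent.KFacts.RgdField Cfsg.Agent.KFacts.RgdChevCoord
open Cfsg.Agent.GpExc.Field Cfsg.Agent.BpExc Cfsg.Agent.BpExc.Tow Cfsg.Agent.BpExc.TowChev Cfsg.Agent.BpExc.Fr
  Cfsg.Agent.BpExc.LangFr Cfsg.Agent.H129.StCover Cfsg.Agent.H129.StTw Cfsg.Agent.H129.StTwT
open Cfsg.Agent.ChevalleyStructure.StBasic Cfsg.Agent.ChevalleyStructure.StTheta
open Cfsg.Agent.H720.TwFr Cfsg.Agent.H607.Car
open Cfsg.Agent.BpExc.FamUntw (phi)

universe u v

/-! ### the general case -/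

section Tr

variable {B Y : Type*} [Group Y] {M : CoxeterMatrix B} {W : Type*} [Group W] {cs : CoxeterSystem M W} {n : B → Y}

/-- representatives modulo equal subgroups -/
theorem rp_of_eq {T T' : Subgroup Y} (h : T = T') {hN : NSys M T n} (hN' : NSys M T' n) {w : W} {g : Y}
    (hw : Rp cs hN w g) : Rp cs hN' w g := by
  subst h
  exact hw

end Tr

section Core

variable {D : ChevalleyDatum} {l : ℕ} {M : CoxeterMatrix (Fin l)} (hp : IsType D l M) {k : Type u} [Field k]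
  [IsAlgClosed k] {W : Type*} [Group W] (cs : CoxeterSystem M W)
  {Φ : (Fin D.rank → kˣ) →* D.SteinbergGroup k} (hΦ : IsPhi Φ)

include hp cs hΦ in
/-- **The centralizer of a toral element contains elements of every class.** -/
theorem exists_cent (σ : MulAut ↥(D.group k))
    (Ψ : D.SteinbergGroup k →* D.SteinbergGroup k) (hθΨ : ∀ x, theta hp.inList k (Ψ x) = σ (theta hp.inList k x))
    {P : Matrix (Fin D.rank) (Fin D.rank) ℤ} {q : ℕ} (hq2 : 2 ≤ q)
    (hΨ : ∀ b, Ψ (Φ b) = Φ (mAct P (fun i => b i ^ q)))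
    {c : Fin D.rank → kˣ} (hcc : Φ c ∈ Subgroup.center (D.SteinbergGroup k))
    {hN : NSys M (TT D k) (nc hp k)} {w : W} {n z t x : ↥(D.group k)} (hn : Rp cs hN w n)
    (hz : n = z⁻¹ * σ z) (ht : t ∈ TT D k) (hx : x = z * t * z⁻¹) :
    ∃ u', Ψ u' = u' * Φ c ∧ theta hp.inList k u' * x = x * theta hp.inList k u' := by
  have hD := hp.inList
  -- the representative
  obtain ⟨ω, rfl⟩ := cs.wordProd_surjective w
  have hrp : Rp cs hN (cs.wordProd ω) (theta hD k (nW D k ω)) := by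
    clear hn
    induction ω with
    | nil =>
      rw [wordProd_nil]
      have : theta hD k (nW D k ([] : List (Fin l))) = 1 := by simp [nW]
      rw [this]
      exact rp_one
    | cons i ω ih =>
      rw [wordProd_cons, nW_cons, map_mul, theta_stn_simple hp]
      exact (rp_simple cs hN i).mul ih
  have ht0 : (theta hD k (nW D k ω))⁻¹ * n ∈ TT D k := hrp.unique hn
  obtain ⟨A, hA⟩ := exists_matrix hD hΦ (lt_rank hp) ω
  -- the solution
  obtain ⟨b, hb⟩ := exists_solution (A * P) hq2 c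
  rw [mAct_mul] at hb
  have hσb : Ψ (Φ b) = Φ (mAct P (fun i => b i ^ q)) := hΨ b
  have hτ : nW D k ω * Ψ (Φ b) * (nW D k ω)⁻¹ = Φ b * Φ c := by
    rw [hσb, hA, hb, map_mul]
  have hs : theta hD k (Φ b) ∈ TT D k := theta_phi_mem hD hΦ b
  obtain ⟨z', rfl⟩ := theta_surjective hD z
  have key : ∀ {x y : D.SteinbergGroup k}, theta hD k x = theta hD k y →
      ∃ κ ∈ Subgroup.center (D.SteinbergGroup k), y = x * κ := by
    intro x y hxy
    refine ⟨x⁻¹ * y, ?_, by group⟩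
    rw [← ker_theta hD, MonoidHom.mem_ker, map_mul, map_inv, hxy, inv_mul_cancel]
  -- the lift of `z`
  obtain ⟨a, ha⟩ := exists_theta_phi hΦ hp ht0
  have hθn : theta hD k (nW D k ω * Φ a) = theta hD k (z'⁻¹ * Ψ z') := by
    rw [map_mul, ha, map_mul, map_inv, hθΨ, ← hz]
    group
  obtain ⟨κ', hκ', h2⟩ := key hθn
  have h3 : Ψ z' = z' * (nW D k ω * Φ a * κ') := by rw [← h2]; group
  have hκc : ∀ x : D.SteinbergGroup k, κ' * x * κ'⁻¹ = x := fun x => by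
    rw [← Subgroup.mem_center_iff.1 hκ' x, mul_inv_cancel_right]
  refine ⟨z' * Φ b * z'⁻¹, ?_, ?_⟩
  · have h4 : Ψ (z' * Φ b * z'⁻¹) = z' * (Φ b * Φ c) * z'⁻¹ := by
      rw [map_mul, map_mul, map_inv, h3, ← hτ]
      have h5 : Φ a * Ψ (Φ b) * (Φ a)⁻¹ = Ψ (Φ b) := by
        rw [hσb, ← map_mul, ← map_inv, ← map_mul]
        congr 1
        exact mul_inv_cancel_comm _ _
      calc z' * (nW D k ω * Φ a * κ') * Ψ (Φ b) * (z' * (nW D k ω * Φ a * κ'))⁻¹
          = z' * (nW D k ω * (Φ a * (κ' * Ψ (Φ b) * κ'⁻¹) * (Φ a)⁻¹) * (nW D k ω)⁻¹) * z'⁻¹ := by group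
        _ = z' * (nW D k ω * Ψ (Φ b) * (nW D k ω)⁻¹) * z'⁻¹ := by rw [hκc, h5]
    rw [h4]
    have h6 := Subgroup.mem_center_iff.1 hcc z'⁻¹
    calc z' * (Φ b * Φ c) * z'⁻¹ = z' * Φ b * (Φ c * z'⁻¹) := by group
      _ = z' * Φ b * (z'⁻¹ * Φ c) := by rw [h6]
      _ = _ := by group
  · have h7 := Cfsg.Agent.BpExc.TorChev.TT_comm hp _ hs _ ht
    rw [map_mul, map_mul, map_inv, hx]
    calc theta hD k z' * theta hD k (Φ b) * (theta hD k z')⁻¹ * (theta hD k z' * t * (theta hD k z')⁻¹)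
        = theta hD k z' * (theta hD k (Φ b) * t) * (theta hD k z')⁻¹ := by group
      _ = theta hD k z' * (t * theta hD k (Φ b)) * (theta hD k z')⁻¹ := by rw [h7]
      _ = _ := by group

include hp cs hΦ in
/-- **The classes of toral elements under the fixed points of `σ` and under the finite group agree.** -/
theorem conn_core {G0 : Type*} [Group G0] (e0 : G0 →* ↥(D.group k)) (σ : MulAut ↥(D.group k))
    (Ψ : D.SteinbergGroup k →* D.SteinbergGroup k) (hθΨ : ∀ x, theta hp.inList k (Ψ x) = σ (theta hp.inList k x))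
    {P : Matrix (Fin D.rank) (Fin D.rank) ℤ} {q : ℕ} (hq2 : 2 ≤ q)
    (hΨ : ∀ b, Ψ (Φ b) = Φ (mAct P (fun i => b i ^ q)))
    (hcen : ∀ κ ∈ Subgroup.center (D.SteinbergGroup k), Ψ κ = κ)
    (hlift : ∀ x : G0, ∃ x', Ψ x' = x' ∧ theta hp.inList k x' = e0 x)
    {c : Fin D.rank → kˣ} (hc : ∀ s < D.nroots, ∏ i : Fin D.rank, c i ^ D.cartan i s = 1) (hc1 : c ≠ 1)
    (hindex : ∀ u, σ u = u → u ∉ e0.range → ∀ y, σ y = y → ∃ j : ℕ, y * (u ^ j)⁻¹ ∈ e0.range)
    {hN : NSys M (TT D k) (nc hp k)} {w : W} {n z t x : ↥(D.group k)} (hn : Rp cs hN w n)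
    (hz : n = z⁻¹ * σ z) (ht : t ∈ TT D k) (hx : x = z * t * z⁻¹) {y : ↥(D.group k)} (hy : σ y = y) :
    ∃ g, e0 g * x * (e0 g)⁻¹ = y * x * y⁻¹ := by
  have hD := hp.inList
  have hcc : Φ c ∈ Subgroup.center (D.SteinbergGroup k) := (hΦ.mem_iff c).2 hc
  have hθc : theta hD k (Φ c) = 1 := by
    rw [← MonoidHom.mem_ker, ker_theta hD]; exact hcc
  obtain ⟨u', hu', hux⟩ := exists_cent hp cs hΦ σ Ψ hθΨ hq2 hΨ hcc hn hz ht hx
  have hu : σ (theta hD k u') = theta hD k u' := by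
    rw [← hθΨ, hu', map_mul, hθc, mul_one]
  have hnu : theta hD k u' ∉ e0.range := by
    rintro ⟨g, hg⟩
    obtain ⟨E, hE, hEg⟩ := hlift g
    have h1 : E⁻¹ * u' ∈ Subgroup.center (D.SteinbergGroup k) := by
      rw [← ker_theta hD, MonoidHom.mem_ker, map_mul, map_inv, hEg, hg, inv_mul_cancel]
    have h2 := hcen _ h1
    rw [map_mul, map_inv, hE, hu', ← mul_assoc] at h2
    have h3 : Φ c = 1 := mul_eq_left.1 h2
    exact hc1 (hΦ.inj (by rw [h3, map_one]))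
  obtain ⟨j, g, hg⟩ := hindex _ hu hnu y hy
  refine ⟨g, ?_⟩
  rw [hg]
  have h1 : theta hD k u' ^ j * x = x * theta hD k u' ^ j := (Commute.pow_left (show Commute _ _ from hux) j)
  have h2 : (theta hD k u' ^ j)⁻¹ * x * theta hD k u' ^ j = x := by
    rw [mul_assoc, ← h1]; group
  calc y * (theta hD k u' ^ j)⁻¹ * x * (y * (theta hD k u' ^ j)⁻¹)⁻¹
      = y * ((theta hD k u' ^ j)⁻¹ * x * theta hD k u' ^ j) * y⁻¹ := by group
    _ = _ := by rw [h2]

end Core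

/-! ### the index -/

/-- the subgroup `f H` of index dividing 3: a subgroup `R ≥ f H` is everything or of index 3 -/
theorem mem_of_index_three {A H : Type*} [CommGroup A] [Finite A] [Group H] {f : H →* A} (hf : Function.Injective f)
    {N : ℕ} (hm : 3 * Nat.card H = N) (hA : Nat.card A ∣ N) {R : Subgroup A} (hR : f.range ≤ R) {u : A} (hu : u ∉ R)
    (a : A) : ∃ j : ℕ, a * (u ^ j)⁻¹ ∈ R := by
  have hfin : Finite H := Finite.of_injective f hf
  have h1 : Nat.card ↥f.range = Nat.card H := (Nat.card_congr (f.ofInjective hf).toEquiv).symm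
  have h2 := Subgroup.card_mul_index f.range
  have h3 : f.range.index ∣ 3 := by
    have h4 : Nat.card H * f.range.index ∣ Nat.card H * 3 := by
      rw [← h1, h2, h1, mul_comm, hm]
      exact hA
    exact Nat.dvd_of_mul_dvd_mul_left Nat.card_pos h4
  have h4 : R.index ∣ 3 := (Subgroup.index_dvd_of_le hR).trans h3
  have h5 : R.index = 3 := by
    rcases (Nat.dvd_prime Nat.prime_three).1 h4 with h | h
    · rw [Subgroup.index_eq_one] at h
      exact absurd (h ▸ Subgroup.mem_top u) hu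
    · exact h
  have h6 : Nat.card (A ⧸ R) = 3 := h5
  have : Fact (Nat.Prime 3) := ⟨Nat.prime_three⟩
  have h7 : (QuotientGroup.mk u : A ⧸ R) ≠ 1 := fun h => hu ((QuotientGroup.eq_one_iff u).1 h)
  obtain ⟨j, hj⟩ := mem_powers_of_prime_card h6 h7 (g' := (QuotientGroup.mk a : A ⧸ R))
  refine ⟨j, ?_⟩
  rw [← QuotientGroup.eq_one_iff, QuotientGroup.mk_mul, QuotientGroup.mk_inv, QuotientGroup.mk_pow]
  have hj' : (QuotientGroup.mk u : A ⧸ R) ^ j = QuotientGroup.mk a := hj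
  rw [hj', mul_inv_cancel]

section Index

variable {D : ChevalleyDatum} {k : Type u} [Field k] [IsAlgClosed k] {σ : MulAut ↥(D.group k)}

theorem index_three [Finite ↥(fixT D k σ)] {N : ℕ} (hA : Nat.card ↥(fixT D k σ) ∣ N)
    {H : Type*} [Group H] {ι : H →* ↥(D.group k)} (hι : Function.Injective ι) (hιT : ∀ h, ι h ∈ fixT D k σ)
    (hm : 3 * Nat.card H = N) {G0 : Type*} [Group G0] {e0 : G0 →* ↥(D.group k)} (hιr : ∀ h, ι h ∈ e0.range)
    (hfix : ∀ x, σ (e0 x) = e0 x)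
    (hnorm : ∀ t : ↥(D.group k), σ t = t → ∀ z ∈ e0.range, t * z * t⁻¹ ∈ e0.range)
    (hsplit : ∀ y : ↥(D.group k), σ y = y → ∃ x, ∃ t ∈ TT D k, y = e0 x * t)
    (hcomm : ∀ a ∈ TT D k, ∀ b ∈ TT D k, a * b = b * a) {u : ↥(D.group k)} (hu : σ u = u) (hnu : u ∉ e0.range)
    {y : ↥(D.group k)} (hy : σ y = y) : ∃ j : ℕ, y * (u ^ j)⁻¹ ∈ e0.range := by
  obtain ⟨x, t, ht, rfl⟩ := hsplit y hy
  have hσt : σ t = t := by
    rw [map_mul, hfix] at hy
    exact mul_left_cancel hy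
  obtain ⟨x1, t1, ht1, rfl⟩ := hsplit u hu
  have hσt1 : σ t1 = t1 := by
    rw [map_mul, hfix] at hu
    exact mul_left_cancel hu
  let _ : CommGroup ↥(fixT D k σ) := { (inferInstance : Group ↥(fixT D k σ)) with
    mul_comm := fun a b => Subtype.ext (hcomm a a.2.1 b b.2.1) }
  obtain ⟨j, hj⟩ := mem_of_index_three (A := ↥(fixT D k σ)) (f := ι.codRestrict (fixT D k σ) hιT)
    (fun a b h => hι (congrArg Subtype.val h)) hm hA (R := e0.range.subgroupOf (fixT D k σ)) (by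
      rintro _ ⟨h, rfl⟩
      exact hιr h) (u := ⟨t1, ht1, hσt1⟩) (fun h => hnu (mul_mem ⟨x1, rfl⟩ h)) ⟨t, ht, hσt⟩
  have hj' : t * (t1 ^ j)⁻¹ ∈ e0.range := hj
  obtain ⟨x', hx', e⟩ := pow_mul_mem (R := e0.range) ⟨x1, rfl⟩ (hnorm t1 hσt1) j
  refine ⟨j, ?_⟩
  rw [e]
  have h1 : e0 x * t * (x' * t1 ^ j)⁻¹ = e0 x * (t * (t1 ^ j)⁻¹) * x'⁻¹ := by group
  rw [h1]
  exact mul_mem (mul_mem ⟨x, rfl⟩ hj') (inv_mem hx')

end Index

/-! ### the cube roots of unity -/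

theorem exists_omega (r : ℕ) [Fact r.Prime] (hr3 : r ≠ 3) : ∃ ω : (Kb r)ˣ, ω ^ 3 = 1 ∧ ω ≠ 1 := by
  have hdk : ((3 : ℕ) : Kb r) ≠ 0 := by
    rw [Ne, CharP.cast_eq_zero_iff (Kb r) r]
    intro h
    rcases (Nat.dvd_prime Nat.prime_three).1 h with h1 | h1
    · exact (Fact.out : r.Prime).one_lt.ne' h1
    · exact hr3 h1
  have : NeZero ((3 : ℕ) : Kb r) := ⟨hdk⟩
  obtain ⟨ζ, hζ⟩ := HasEnoughRootsOfUnity.exists_primitiveRoot (Kb r) 3
  have hζ0 : ζ ≠ 0 := hζ.ne_zero (by norm_num)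
  refine ⟨Units.mk0 ζ hζ0, Units.ext (by rw [Units.val_pow_eq_pow_val]; exact hζ.pow_eq_one), ?_⟩
  intro h1
  have h3 : ζ = 1 := congrArg Units.val h1
  rw [h3] at hζ
  exact absurd (hζ.eq_orderOf.trans orderOf_one) (by norm_num)

theorem comm_TT {k : Type u} [Field k] : ∀ a ∈ TT chevE6 k, ∀ b ∈ TT chevE6 k, a * b = b * a :=
  fun a ha b hb => Cfsg.Agent.BpExc.TorChev.TT_comm hp6 a ha b hb

/-! ### `E₆(q)` -/

section Split

variable {r n : ℕ} [Fact r.Prime] {F : Type} [Field F] [Fintype F] (f : F →+* Kb r)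

theorem phi_eq' (m : ℕ) : phi chevE6 (Kb r) r m = Cfsg.Agent.H129.TorusUntw.phi chevE6 (Kb r) r m := by
  apply MulEquiv.ext
  intro g
  apply Subtype.ext
  rw [Cfsg.Agent.H129.TorusUntw.coe_phi]
  apply Units.ext
  rw [Cfsg.Agent.BpExc.FamUntw.phi_coe]
  rfl

/-- a `σ`-fixed element normalises the finite group -/
theorem norm_split (hF : Fintype.card F = r ^ n) {t : Yb r} (ht : phi chevE6 (Kb r) r n t = t) {z : Yb r}
    (hz : z ∈ (emb hp6.inList f).range) : t * z * t⁻¹ ∈ (emb hp6.inList f).range := by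
  obtain ⟨a, rfl⟩ := hz
  rw [phi_eq'] at ht
  have h0 : glMap chevE6 (iterateFrobenius (Kb r) r n) (t : GL chevE6.Idx (Kb r)) = t := by
    rw [← Cfsg.Agent.H129.TorusUntw.coe_phi, ht]
  have h1 := Cfsg.Agent.BpExc.Emb.mem_normalizer hp6.inList
    (Cfsg.Agent.H129.TorusUntw.frob_fix_iff f hF) t.2 h0
  have h2 := (Subgroup.mem_normalizer_iff.1 h1 (glMap chevE6 f a)).1 ⟨a, a.2, rfl⟩
  obtain ⟨b, hb, e⟩ := h2
  exact ⟨⟨b, hb⟩, Subtype.ext e⟩

theorem card_split (hn0 : 0 < n) : Finite ↥(fixT chevE6 (Kb r) (phi chevE6 (Kb r) r n)) ∧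
    Nat.card ↥(fixT chevE6 (Kb r) (phi chevE6 (Kb r) r n)) ∣ (r ^ n - 1) ^ 6 := by
  have hk : LocFin (Kb r) := locFin_of_isAlgebraic r (Kb r)
  obtain ⟨hfin, hdvd⟩ := card_fixT hp6 cs6 hn0 (Cfsg.Agent.BpExc.FamInst.phi_isFrob (D := chevE6) r n)
    (Cfsg.Agent.BpExc.FamInst.phi_fr hp6 cs6 r hk n) (m := 6) (fun i => i) (fun _ => 1) (by intro a; exact one_pos)
    (fun a => rfl) (fun i => ⟨i, 0, rfl⟩)
  refine ⟨hfin, ?_⟩
  rw [Finset.prod_const, Finset.card_univ, Fintype.card_fin, pow_one] at hdvd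
  exact hdvd

theorem hcard_split (hF : Fintype.card F = r ^ n) :
    Nat.gcd 3 (r ^ n - 1) * Nat.card ↥(chevE6.diagonalSubgroup F) = (r ^ n - 1) ^ 6 := by
  have h := Cfsg.Agent.S1035.result (F := F) hF (chevE6, Nat.gcd 3 (r ^ n - 1)) (by simp)
  exact h

/-- the torus of `E₆(q)` -/
noncomputable def iotaT : ↥(chevE6.diagonalSubgroup F) →* Yb r :=
  (emb hp6.inList f).comp (Subgroup.inclusion (diagonal_le_group hp6.inList F))

theorem iotaT_inj : Function.Injective (iotaT f) :=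
  (emb_injective hp6.inList f).comp (Subgroup.inclusion_injective _)

theorem iotaT_mem (hF : Fintype.card F = r ^ n) (h : ↥(chevE6.diagonalSubgroup F)) :
    iotaT f h ∈ fixT chevE6 (Kb r) (phi chevE6 (Kb r) r n) := by
  refine ⟨emb_T hp6 f ⟨⟨(h : GL chevE6.Idx F), diagonal_le_group hp6.inList F h.2⟩, h.2, rfl⟩, ?_⟩
  show phi chevE6 (Kb r) r n (iotaT f h) = iotaT f h
  rw [phi_eq']
  exact Cfsg.Agent.H129.TorusUntw.phi_emb hp6 f hF _

/-- **The classes of semisimple elements of prime order of `E₆(q)`.** -/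
theorem connAll_split (hn0 : 0 < n) (hF : Fintype.card F = r ^ n) {x x' : ↥(chevE6.group F)} (hx : (orderOf x).Prime)
    (hxr : orderOf x ≠ r) {y : Yb r} (hy : phi chevE6 (Kb r) r n y = y)
    (h : y * emb hp6.inList f x * y⁻¹ = emb hp6.inList f x') : IsConj x x' := by
  have hk : LocFin (Kb r) := locFin_of_isAlgebraic r (Kb r)
  have hrp : r.Prime := Fact.out
  have hq2 : 2 ≤ r ^ n := by rw [← hF]; exact Fintype.one_lt_card
  obtain ⟨hfin, hA⟩ := card_split (r := r) hn0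
  have hcard := hcard_split (r := r) hF
  have hfix : ∀ a : ↥(chevE6.group F), phi chevE6 (Kb r) r n (emb hp6.inList f a) = emb hp6.inList f a := fun a => by
    rw [phi_eq']; exact Cfsg.Agent.H129.TorusUntw.phi_emb hp6 f hF a
  have hsplit : ∀ y : Yb r, phi chevE6 (Kb r) r n y = y → ∃ x, ∃ t ∈ TT chevE6 (Kb r),
      y = emb hp6.inList f x * t := fun y hy => by
    rw [phi_eq'] at hy
    exact Cfsg.Agent.H129.TorusUntw.fix_split hp6 f hF hy
  suffices hs : ∃ g, emb hp6.inList f g * emb hp6.inList f x * (emb hp6.inList f g)⁻¹ =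
      y * emb hp6.inList f x * y⁻¹ by
    obtain ⟨g, hg⟩ := hs
    rw [h, ← map_inv, ← map_mul, ← map_mul] at hg
    exact isConj_iff.2 ⟨g, emb_injective hp6.inList f hg⟩
  rcases (Nat.dvd_prime Nat.prime_three).1 (Nat.gcd_dvd_left 3 (r ^ n - 1)) with h3 | h3
  · rw [h3] at hcard
    obtain ⟨g, hg⟩ := desc (σ := phi chevE6 (Kb r) r n) (e0 := emb hp6.inList f) hA (ι := iotaT f) (iotaT_inj f)
      (iotaT_mem f hF) hcard (fun h => ⟨_, rfl⟩) hfix (fun t ht z hz => norm_split f hF ht hz) hsplit comm_TT hy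
    exact ⟨g, by rw [hg, pow_one]⟩
  rw [h3] at hcard
  have hd3 : 3 ∣ r ^ n - 1 := by rw [← h3]; exact Nat.gcd_dvd_right _ _
  have hr3 : r ≠ 3 := by
    rintro rfl
    have h1 : 3 ∣ 3 ^ n := dvd_pow_self 3 hn0.ne'
    omega
  obtain ⟨ω, hω3, hω1⟩ := exists_omega r hr3
  obtain ⟨Φ, hΦ⟩ := Cfsg.Agent.H129.PhiE.isPhi_E6 (Kb r)
  obtain ⟨z, hz⟩ := TorAll.exists_toral' hp6 r hx hxr (y := emb hp6.inList f x) (by
    rw [← map_pow, pow_orderOf_eq_one, map_one])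
  obtain ⟨z', t, n', g', w, ht, h1, h2, -, -, -, hw, -⟩ := Cfsg.Agent.H696.GmnToral.frame_of_toral hp6 cs6 hk hn0
    (Cfsg.Agent.BpExc.FamInst.phi_isFrob (D := chevE6) r n) (Cfsg.Agent.BpExc.FamInst.phi_fr hp6 cs6 r hk n)
    (hfix x) hz
  have hΨ : ∀ b : Fin chevE6.rank → (Kb r)ˣ, stMap chevE6 (iterateFrobenius (Kb r) r n) (Φ b) =
      Φ (mAct 1 (fun i => b i ^ r ^ n)) := by
    intro b
    rw [stMap_phi hΦ, mAct_one]
    refine congrArg Φ (funext fun i => Units.ext ?_)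
    rw [Units.val_pow_eq_pow_val]
    exact iterateFrobenius_def _ _ _
  refine conn_core hp6 cs6 hΦ (emb hp6.inList f) (phi chevE6 (Kb r) r n)
    (stMap chevE6 (iterateFrobenius (Kb r) r n)) (fun a => by
      rw [theta_stMap, phi_eq', Cfsg.Agent.H129.TorusUntw.phi_eq hp6]) hq2 hΨ ?_ ?_ (cen_of hω3) (cen_ne hω1) ?_
    (rp_of_eq (TL_eq hp6 hk) (Cfsg.Agent.H129.TorusUntw.nsys_of_locFin hp6 cs6 hk r) hw) h2.symm ht
    (by rw [← h1]; group) hy
  · intro κ hκ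
    obtain ⟨a, rfl⟩ := hΦ.center_le hκ
    rw [hΨ, mAct_one]
    refine congrArg Φ (funext fun i => ?_)
    obtain ⟨m, hm⟩ := hd3
    have h5 : r ^ n = 3 * m + 1 := by omega
    rw [h5, pow_succ, pow_mul, cen_cube ((hΦ.mem_iff a).1 hκ), one_pow, one_mul]
  · intro a
    obtain ⟨a', rfl⟩ := theta_surjective hp6.inList a
    refine ⟨stMap chevE6 f a', ?_, by rw [theta_stMap]⟩
    rw [stMap_comp]
    have h5 : (iterateFrobenius (Kb r) r n).comp f = f := by
      ext a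
      exact (Cfsg.Agent.H129.TorusUntw.frob_fix_iff f hF (f a)).2 ⟨a, rfl⟩
    rw [h5]
  · intro u hu hnu y hy
    exact index_three (σ := phi chevE6 (Kb r) r n) (e0 := emb hp6.inList f) hA (ι := iotaT f) (iotaT_inj f)
      (iotaT_mem f hF) hcard (fun h => ⟨_, rfl⟩) hfix (fun t ht z hz => norm_split f hF ht hz) hsplit comm_TT hu hnu hy

/-- **T3, `E₆(q)`.** -/
theorem conn_split (hn0 : 0 < n) (hF : Fintype.card F = r ^ n) :
    ConnSt r (emb hp6.inList f) (phi chevE6 (Kb r) r n) :=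
  fun _ _ hx _ hxr _ hy h => connAll_split f hn0 hF hx hxr hy h

end Split

/-! ### `²E₆(q)` -/

section Tw

variable {r n q : ℕ} [Fact r.Prime] {K : Type} [Field K] [Fintype K] (f : K →+* Kb r)

theorem sig6_eq (m : ℕ) : sig6 (Kb r) r m = Cfsg.Agent.H129.TwE6Fr.tau (Kb r) r m := by
  apply MulEquiv.ext
  intro g
  apply Subtype.ext
  rw [coe_sig6, Cfsg.Agent.H129.TwE6Fr.coe_tau]

theorem em6_eq (hq : IsPrimePow q) (hK : Fintype.card K = q ^ 2) (g : ↥(twistedE6 K q)) :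
    em6 q f g = Cfsg.Agent.H129.TwE6Fr.embT f hq hK g := by
  apply Subtype.ext
  rw [Cfsg.Agent.H129.TwE6Fr.coe_embT]
  rfl

/-- the torus of `²E₆(q)` -/
noncomputable def iotaS (q : ℕ) (f : K →+* Kb r) : ↥(chevE6.diagonalSubgroup K ⊓ twistedE6 K q) →* Yb r :=
  (em6 q f).comp (Subgroup.inclusion inf_le_right)

theorem iotaS_inj : Function.Injective (iotaS q f) :=
  (Cfsg.Agent.BpExc.FamTw.Six.em_injective f).comp (Subgroup.inclusion_injective _)

theorem iotaS_mem (hn0 : 0 < n) (hn : q = r ^ n) (hK : Fintype.card K = q ^ 2)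
    (h : ↥(chevE6.diagonalSubgroup K ⊓ twistedE6 K q)) :
    iotaS q f h ∈ fixT chevE6 (Kb r) (sig6 (Kb r) r n) :=
  ⟨emb_T hp6 f ⟨⟨(h : GL chevE6.Idx K), _⟩, h.2.1, rfl⟩, em6_fix f r hn0 hn hK _⟩

theorem card_tw (hn0 : 0 < n) (hn : q = r ^ n) : Finite ↥(fixT chevE6 (Kb r) (sig6 (Kb r) r n)) ∧
    Nat.card ↥(fixT chevE6 (Kb r) (sig6 (Kb r) r n)) ∣ (q - 1) ^ 4 * (q + 1) ^ 2 := by
  have hk : LocFin (Kb r) := locFin_of_isAlgebraic r (Kb r)
  obtain ⟨hfin, hdvd⟩ := card_fixT hp6 cs6 hn0 (isFrob_sig6 (k := Kb r) r n) (fr_sig6 hk r hp6 cs6 n) (m := 4)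
    ![1, 3, 0, 2] ![1, 1, 2, 2] (by decide) (by
      intro a
      fin_cases a <;> · funext i; fin_cases i <;> rfl) (by
      intro i
      fin_cases i
      · exact ⟨2, 0, rfl⟩
      · exact ⟨0, 0, rfl⟩
      · exact ⟨3, 0, rfl⟩
      · exact ⟨1, 0, rfl⟩
      · exact ⟨3, 1, by funext i; fin_cases i <;> rfl⟩
      · exact ⟨2, 1, by funext i; fin_cases i <;> rfl⟩)
  rw [← hn] at hdvd
  have hprod : ∏ a : Fin 4, (q ^ (![1, 1, 2, 2] : Fin 4 → ℕ) a - 1) = (q - 1) ^ 4 * (q + 1) ^ 2 := by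
    rw [Fin.prod_univ_four]
    show (q ^ 1 - 1) * (q ^ 1 - 1) * (q ^ 2 - 1) * (q ^ 2 - 1) = _
    have h1 : q ^ 2 - 1 = (q - 1) * (q + 1) := by
      have := Nat.sq_sub_sq q 1
      rw [one_pow] at this
      rw [this, mul_comm]
    rw [h1, pow_one]
    ring
  rw [hprod] at hdvd
  exact ⟨hfin, hdvd⟩

/-- **The classes of semisimple elements of prime order of `²E₆(q)`.** -/
theorem connAll_tw (hn0 : 0 < n) (hn : q = r ^ n) (hK : Fintype.card K = q ^ 2) {x x' : ↥(twistedE6 K q)}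
    (hx : (orderOf x).Prime) (hxr : orderOf x ≠ r) {y : Yb r} (hy : sig6 (Kb r) r n y = y)
    (h : y * em6 q f x * y⁻¹ = em6 q f x') : IsConj x x' := by
  have hk : LocFin (Kb r) := locFin_of_isAlgebraic r (Kb r)
  have hrp : r.Prime := Fact.out
  have hq : IsPrimePow q := (isPrimePow_nat_iff _).2 ⟨r, n, hrp, hn0, hn.symm⟩
  have hq2 : 2 ≤ q := hq.two_le
  have hφ : ∀ t : Kb r, iterateFrobenius (Kb r) r n t = t ^ q := fun t => by rw [iterateFrobenius_def, hn]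
  have hchar : CharP K r := (f.charP_iff f.injective r).2 inferInstance
  obtain ⟨hfin, hA⟩ := card_tw (r := r) hn0 hn
  have hcard := Cfsg.Agent.S1102.result (K := K) hq hK
  have hfix := em6_fix f r hn0 hn hK
  have hsplit : ∀ y : Yb r, sig6 (Kb r) r n y = y → ∃ x, ∃ t ∈ TT chevE6 (Kb r), y = em6 q f x * t := by
    intro y hy
    obtain ⟨x, hx, t, ht, e⟩ := Cfsg.Agent.BpExc.EmbInst.twE6_split (f := f) hq hK hφ y.2 (by rw [← coe_sig6, hy])
    exact ⟨⟨x, hx⟩, ⟨t, diagonal_le_group hp6.inList (Kb r) ht⟩, ht, Subtype.ext e⟩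
  suffices hs : ∃ g, em6 q f g * em6 q f x * (em6 q f g)⁻¹ = y * em6 q f x * y⁻¹ by
    obtain ⟨g, hg⟩ := hs
    rw [h, ← map_inv, ← map_mul, ← map_mul] at hg
    exact isConj_iff.2 ⟨g, Cfsg.Agent.BpExc.FamTw.Six.em_injective f hg⟩
  rcases (Nat.dvd_prime Nat.prime_three).1 (Nat.gcd_dvd_left 3 (q + 1)) with h3 | h3
  · obtain ⟨g, hg⟩ := desc6 f r hk hn0 hn hK hy
    exact ⟨g, by rw [hg, h3, pow_one]⟩
  rw [h3] at hcard
  have hd3 : 3 ∣ q + 1 := by rw [← h3]; exact Nat.gcd_dvd_right _ _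
  have hr3 : r ≠ 3 := by
    rintro rfl
    have h1 : 3 ∣ q := by rw [hn]; exact dvd_pow_self 3 hn0.ne'
    omega
  obtain ⟨ω, hω3, hω1⟩ := exists_omega r hr3
  obtain ⟨Φ, hΦ⟩ := Cfsg.Agent.H129.PhiE.isPhi_E6 (Kb r)
  obtain ⟨z, hz⟩ := TorAll.exists_toral' hp6 r hx hxr (y := em6 q f x) (by
    rw [← map_pow, pow_orderOf_eq_one, map_one])
  obtain ⟨z', t, n', g', w, ht, h1, h2, -, -, -, hw, -⟩ := Cfsg.Agent.H696.GmnToral.frame_of_toral hp6 cs6 hk hn0
    (isFrob_sig6 r n) (fr_sig6 hk r hp6 cs6 n) (hfix x) hz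
  have hΨ : ∀ b : Fin chevE6.rank → (Kb r)ˣ, stSg (iterateFrobenius (Kb r) r n) (Φ b) =
      Φ (mAct Pm (fun i => b i ^ q)) := by
    intro b
    rw [stSg_phi hΦ]
    refine congrArg Φ (funext fun i => Units.ext ?_)
    rw [mAct_Pm, Units.val_pow_eq_pow_val]
    exact hφ _
  refine conn_core hp6 cs6 hΦ (em6 q f) (sig6 (Kb r) r n) (stSg (iterateFrobenius (Kb r) r n)) (fun a => by
      rw [sig6_eq]; exact theta_stSg a) hq2 hΨ ?_ (fun a => by
      obtain ⟨x', h5, h6⟩ := lift_tw f hn hq hK a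
      exact ⟨x', h5, by rw [em6_eq f hq hK]; exact h6⟩) (cen_of hω3) (cen_ne hω1) ?_
    (rp_of_eq (TL_eq hp6 hk) (Cfsg.Agent.H129.TorusUntw.nsys_of_locFin hp6 cs6 hk r) hw) h2.symm ht
    (by rw [← h1]; group) hy
  · intro κ hκ
    obtain ⟨a, rfl⟩ := hΦ.center_le hκ
    have h2 := cen_fix hd3 ((hΦ.mem_iff a).1 hκ)
    rw [hΨ]
    refine congrArg Φ (funext fun i => ?_)
    rw [mAct_Pm]
    exact h2 i
  · intro u hu hnu y hy
    exact index_three (σ := sig6 (Kb r) r n) (e0 := em6 q f) hA (ι := iotaS q f) (iotaS_inj f)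
      (iotaS_mem f hn0 hn hK) hcard (fun h => ⟨_, rfl⟩) hfix
      (fun t ht z hz => Cfsg.Agent.H696.GmnTwE6.conj_mem f hn0 hn hK ht hz) hsplit comm_TT hu hnu hy

/-- **T3, `²E₆(q)`.** -/
theorem conn_tw (hn0 : 0 < n) (hn : q = r ^ n) (hK : Fintype.card K = q ^ 2) :
    ConnSt r (em6 q f) (sig6 (Kb r) r n) :=
  fun _ _ hx _ hxr _ hy h => connAll_tw f hn0 hn hK hx hxr hy h

end Tw

end Cfsg.Agent.H129.Car
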